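import Groth.Agent.Lib.CurveCoh17.GenusBC
import Groth.Agent.Lib.FibDim4.Basic
import Groth.Agent.Lib.CubeField.Simple
import Groth.Agent.S7834

/-!
# Geometric fibres of curves of genus zero
-/

set_option autoImplicit false
set_option linter.style.haveILetI false
set_option maxHeartbeats 1000000
set_option backward.isDefEq.respectTransparency false
set_option backward.isDefEq.respectTransparency.types false

universe u

open CategoryTheory CategoryTheory.Limits AlgebraicGeometry TopologicalSpace Opposite

noncomputable section

namespace Groth.Agent.P1Surf1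

open Groth.Agent

/-- The base change of a geometrically integral curve of genus zero to an algebraically closed field is a line. -/
theorem exists_iso_P1_of_isPullback {k : Type u} [Field k] {Y : Scheme.{u}} [Y.Over (Spec (CommRingCat.of k))]
    [IsProper (Y ↘ Spec (CommRingCat.of k))] [GeometricallyIntegral (Y ↘ Spec (CommRingCat.of k))]
    (hdim : topologicalKrullDim Y = 1) (hg : Curv2.genus k Y = 0)
    (K : Type u) [Field K] [IsSepClosed K] (φ : CommRingCat.of k ⟶ CommRingCat.of K)
    {W : Scheme.{u}} (p₁ : W ⟶ Y) (p₂ : W ⟶ Spec (CommRingCat.of K))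
    (h : IsPullback p₁ p₂ (Y ↘ Spec (CommRingCat.of k)) (Spec.map φ)) :
    ∃ e : W ≅ CohB1.ProjSpace 1 K, e.hom ≫ CohB1.ProjSpace.toSpec 1 K = p₂ := by
  letI : Algebra k K := φ.hom.toAlgebra
  letI : W.Over (Spec (CommRingCat.of K)) := ⟨p₂⟩
  haveI : IsProper (W ↘ Spec (CommRingCat.of K)) := MorphismProperty.of_isPullback (P := @IsProper) h inferInstance
  haveI : GeometricallyIntegral (W ↘ Spec (CommRingCat.of K)) :=
    MorphismProperty.of_isPullback (P := @GeometricallyIntegral) h inferInstance
  have hd : topologicalKrullDim W = 1 := by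
    rw [FibDim4.topologicalKrullDim_eq_of_isPullback φ (Field.toIsField k) (Field.toIsField K) _ _ _ h, hdim]
  have hg' : Curv2.genus K W = 0 := by
    haveI : CompactSpace Y := QuasiCompact.compactSpace_of_compactSpace (Y ↘ Spec (CommRingCat.of k))
    haveI : QuasiSeparatedSpace Y := quasiSeparatedSpace_of_quasiSeparated (Y ↘ Spec (CommRingCat.of k))
    show Module.finrank K (Coh.HH W (Coh.structureModule W) 1) = 0
    rw [CurveCoh17.finrank_HH_of_isPullback (k := k) (K := K) (g := p₁) h 1]
    exact hg
  exact S7834.result K W hd hg'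

end Groth.Agent.P1Surf1
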