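import Groth.Agent.Lib.P1Surf1.GenFibre
import Groth.Agent.Lib.P1Surf1.GeomFibre
import Groth.Agent.Lib.P1Bun1.Genus0
import Groth.Agent.Lib.FlatH4.SmoothFibres
import Groth.Agent.S14512
import Groth.Agent.S2553
import Groth.Agent.S5934
import Groth.Agent.S1025
import Groth.Agent.Lib.CartExt13.Divisor
import Groth.Agent.Lib.CurveR1_10.Basic
import Mathlib.AlgebraicGeometry.AlgClosed.Basic

/-!
# Fibrations in lines over curves
-/

set_option autoImplicit false
set_option linter.style.haveILetI false
set_option maxHeartbeats 1000000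
set_option backward.isDefEq.respectTransparency false
set_option backward.isDefEq.respectTransparency.types false

universe u

open CategoryTheory CategoryTheory.Limits AlgebraicGeometry TopologicalSpace Opposite

noncomputable section

namespace Groth.Agent.P1Surf1

open Groth.Agent

variable {k : Type u} [Field k] [IsAlgClosed k] {X B : Scheme.{u}} {π : X ⟶ B}

/-- A closed fibre which is a line as a scheme is a smooth geometrically integral curve of genus zero. -/
theorem fibre_closed [B.Over (Spec (CommRingCat.of k))] [LocallyOfFiniteType (B ↘ Spec (CommRingCat.of k))]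
    [IsProper π] {b : B} (hb : IsClosed ({b} : Set B))
    (h : Nonempty (π.fiber b ≅ CohB1.ProjSpace 1 k)) :
    GeometricallyIntegral (π.fiberToSpecResidueField b) ∧ Smooth (π.fiberToSpecResidueField b) ∧
      topologicalKrullDim (π.fiber b) = 1 ∧
      @Curv2.genus (B.residueField b) _ (π.fiber b) ⟨π.fiberToSpecResidueField b⟩ = 0 := by
  obtain ⟨e⟩ := h
  haveI : IsAlgClosed (B.residueField b) :=
    IsAlgClosed.of_ringEquiv k _
      ((residueFieldIsoBase (B ↘ Spec (CommRingCat.of k)) b hb).commRingCatIsoToRingEquiv).symm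
  letI : (π.fiber b).Over (Spec (CommRingCat.of (B.residueField b))) := ⟨π.fiberToSpecResidueField b⟩
  haveI : IsProper ((π.fiber b) ↘ Spec (CommRingCat.of (B.residueField b))) :=
    MorphismProperty.of_isPullback (P := @IsProper) (IsPullback.of_hasPullback π (B.fromSpecResidueField b)) inferInstance
  haveI : IsIntegral (CohB1.ProjSpace 1 k) := RegExt.isIntegral_projSpace 1 k
  haveI : Nonempty (π.fiber b) := ⟨e.inv (genericPoint _)⟩
  haveI : IsIntegral (π.fiber b) := isIntegral_of_isOpenImmersion e.hom
  have hdim : topologicalKrullDim (π.fiber b) = 1 := by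
    rw [IsHomeomorph.topologicalKrullDim_eq _ e.hom.homeomorph.isHomeomorph, S10829.result k 1]
    rfl
  haveI := CubeField.geometricallyIntegral_of_isIntegral ((π.fiber b) ↘ Spec (CommRingCat.of (B.residueField b)))
  have hg : Curv2.genus (B.residueField b) (π.fiber b) = 0 := by
    haveI : Subsingleton (Coh.HH (π.fiber b) (Coh.structureModule (π.fiber b)) 1) := by
      letI : (CohB1.ProjSpace 1 k).Over (Spec (CommRingCat.of (B.residueField b))) :=
        ⟨e.inv ≫ π.fiberToSpecResidueField b⟩
      haveI : Subsingleton (Coh.HH (CohB1.ProjSpace 1 k) (Coh.structureModule (CohB1.ProjSpace 1 k)) 1) := by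
        letI : (CohB1.ProjSpace 1 k).Over (Spec (CommRingCat.of k)) := ⟨CohB1.ProjSpace.toSpec 1 k⟩
        obtain ⟨z⟩ := Twist.nonempty_twist_zero_iso (CohB1.polyGrading 1 k)
        have : Subsingleton (Coh.HH (CohB1.ProjSpace 1 k) (_root_.Twist.twistProjSpace 1 k 0) 1) :=
          S0844.result k 1 0 1 (by simp) (by norm_num)
        exact @Equiv.subsingleton _ _ (CurveCoh17.hequiv k z 1).symm.toEquiv this
      obtain ⟨θ⟩ := CurveCoh17.nonempty_pushO_iso e.hom
      obtain ⟨ep⟩ := AmpleFin18.nonempty_HH_push (k := B.residueField b) e.hom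
        (Iso.hom_inv_id_assoc e (π.fiberToSpecResidueField b)) _
        (M1.isQCoh_structureModule (π.fiber b)) 1
      exact ((CurveCoh17.hequiv (B.residueField b) θ 1).trans ep).symm.toEquiv.subsingleton
    exact Module.finrank_zero_of_subsingleton
  exact ⟨‹_›, S14512.result (B.residueField b) (π.fiber b) hdim hg, hdim, hg⟩

/-- An open set containing the closed points of a scheme of finite type over a field is everything. -/
theorem eq_univ_of_closed [B.Over (Spec (CommRingCat.of k))] [LocallyOfFiniteType (B ↘ Spec (CommRingCat.of k))]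
    {U : Set B} (hU : IsOpen U) (h : ∀ b : B, IsClosed ({b} : Set B) → b ∈ U) : U = Set.univ := by
  haveI : JacobsonSpace B := LocallyOfFiniteType.jacobsonSpace (B ↘ Spec (CommRingCat.of k))
  by_contra hne
  obtain ⟨b, hb, hbc⟩ := nonempty_inter_closedPoints (Z := Uᶜ) (Set.nonempty_compl.2 hne) hU.isClosed_compl.isLocallyClosed
  exact hb (h b hbc)

/-- Fibrations over curves whose closed fibres are lines are smooth families of lines. -/
theorem smooth_and_isP1Fam [X.Over (Spec (CommRingCat.of k))] [B.Over (Spec (CommRingCat.of k))]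
    [IsProper (X ↘ Spec (CommRingCat.of k))] [IsProper (B ↘ Spec (CommRingCat.of k))]
    [IsIntegral X] [IsIntegral B] [Smooth (B ↘ Spec (CommRingCat.of k))]
    (hπ : π ≫ (B ↘ Spec (CommRingCat.of k)) = X ↘ Spec (CommRingCat.of k))
    (hsurj : Function.Surjective π) (hX2 : topologicalKrullDim X = 2) (hB1 : topologicalKrullDim B = 1)
    (hfib : ∀ b : B, IsClosed ({b} : Set B) → Nonempty (π.fiber b ≅ CohB1.ProjSpace 1 k)) :
    Smooth π ∧ P1Bun1.IsP1Fam π ∧ ∀ b : B, GeometricallyIntegral (π.fiberToSpecResidueField b) ∧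
      topologicalKrullDim (π.fiber b) = 1 ∧
      @Curv2.genus (B.residueField b) _ (π.fiber b) ⟨π.fiberToSpecResidueField b⟩ = 0 := by
  haveI := isProper_of_comp hπ
  haveI : IsLocallyNoetherian B := LocallyOfFiniteType.isLocallyNoetherian (B ↘ Spec (CommRingCat.of k))
  haveI : LocallyOfFinitePresentation π := inferInstance
  haveI := flat_of_surjective (k := k) (π := π) hB1 hsurj
  have hI : ∀ b : B, GeometricallyIntegral (π.fiberToSpecResidueField b) :=
    Set.eq_univ_iff_forall.1 (eq_univ_of_closed (k := k) (S2553.result π) fun b hb => (fibre_closed hb (hfib b hb)).1)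
  have hS : ∀ b : B, Smooth (π.fiberToSpecResidueField b) :=
    Set.eq_univ_iff_forall.1 (eq_univ_of_closed (k := k) (S5934.result π) fun b hb => (fibre_closed hb (hfib b hb)).2.1)
  have hD : ∀ b : B, topologicalKrullDim (π.fiber b) = 1 := fun b => by
    by_cases hb : IsClosed ({b} : Set B)
    · exact (fibre_closed hb (hfib b hb)).2.2.1
    · have hy : b = genericPoint B := by
        by_contra hne
        exact hb (Curve17.isClosed_singleton hB1.le hne)
      rw [hy]
      exact dim_fiber_generic hπ hsurj hX2 hB1
  have hflat : FlatMod.IsFlatOver π (Coh.structureModule X) := CartExt13.isFlatOver_structureModule π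
  have hfp : CohB1.IsFP (Coh.structureModule X) := CurveR1_10.isFP_structure
  have hbetti : ∀ b : B, PerfAux.betti π (Coh.structureModule X) b 1 =
      @Curv2.genus (B.residueField b) _ (π.fiber b) ⟨π.fiberToSpecResidueField b⟩ := fun b => by
    letI : (π.fiber b).Over (Spec (CommRingCat.of (B.residueField b))) := ⟨π.fiberToSpecResidueField b⟩
    exact (CurveCoh17.hequiv (B.residueField b) (Twist.pullbackUnitIso (π.fiberι b)) 1).finrank_eq
  have hG : ∀ b : B, @Curv2.genus (B.residueField b) _ (π.fiber b) ⟨π.fiberToSpecResidueField b⟩ = 0 := fun b => by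
    have h := Set.eq_univ_iff_forall.1 (eq_univ_of_closed (k := k) (S1025.result π _ hfp hflat 1 1) fun c hc => by
      show PerfAux.betti π (Coh.structureModule X) c 1 < 1
      rw [hbetti, (fibre_closed hc (hfib c hc)).2.2.2]
      exact zero_lt_one) b
    change PerfAux.betti π (Coh.structureModule X) b 1 < 1 at h
    rw [hbetti] at h
    omega
  refine ⟨FlatH4.smooth_of_flat_of_fibres π fun K _ a => ?_, ?_, fun b => ⟨hI b, hD b, hG b⟩⟩
  · obtain ⟨b, φ, ha⟩ : ∃ (b : B) (φ : B.residueField b ⟶ CommRingCat.of K), Spec.map φ ≫ B.fromSpecResidueField b = a :=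
      ⟨_, _, Scheme.descResidueField_stalkClosedPointTo_fromSpecResidueField K B a⟩
    subst ha
    have sq := (IsPullback.of_hasPullback (π.fiberToSpecResidueField b) (Spec.map φ)).paste_horiz
      (IsPullback.of_hasPullback π (B.fromSpecResidueField b))
    haveI : Smooth (pullback.snd (π.fiberToSpecResidueField b) (Spec.map φ)) :=
      MorphismProperty.of_isPullback (P := @Smooth)
        (IsPullback.of_hasPullback (π.fiberToSpecResidueField b) (Spec.map φ)) (hS b)
    rw [← sq.flip.isoPullback_inv_fst]
    exact (MorphismProperty.cancel_left_of_respectsIso (@Smooth) sq.flip.isoPullback.inv _).2 this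
  intro Ω _ _ x
  obtain ⟨b, φ, hx⟩ : ∃ (b : B) (φ : B.residueField b ⟶ CommRingCat.of Ω), Spec.map φ ≫ B.fromSpecResidueField b = x :=
    ⟨_, _, Scheme.descResidueField_stalkClosedPointTo_fromSpecResidueField Ω B x⟩
  subst hx
  letI : (π.fiber b).Over (Spec (CommRingCat.of (B.residueField b))) := ⟨π.fiberToSpecResidueField b⟩
  haveI : IsProper ((π.fiber b) ↘ Spec (CommRingCat.of (B.residueField b))) :=
    MorphismProperty.of_isPullback (P := @IsProper) (IsPullback.of_hasPullback π (B.fromSpecResidueField b)) inferInstance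
  haveI : GeometricallyIntegral ((π.fiber b) ↘ Spec (CommRingCat.of (B.residueField b))) := hI b
  obtain ⟨e, he⟩ := exists_iso_P1_of_isPullback (hD b) (hG b) Ω φ (pullback.fst _ _) (pullback.snd _ _)
    (IsPullback.of_hasPullback (π.fiberToSpecResidueField b) (Spec.map φ))
  have sq := (IsPullback.of_hasPullback (π.fiberToSpecResidueField b) (Spec.map φ)).paste_horiz
    (IsPullback.of_hasPullback π (B.fromSpecResidueField b))
  refine ⟨sq.isoPullback.symm ≪≫ e, ?_⟩
  rw [Iso.trans_hom, Category.assoc, he, Iso.symm_hom, sq.isoPullback_inv_snd]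

end Groth.Agent.P1Surf1
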