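import Groth.Agent.Lib.Curve17.Basic
import Groth.Agent.Lib.EquiDim4
import Groth.Agent.Lib.DimIrrH1.Core
import Groth.Agent.Lib.SmoothReg17.Basic
import Groth.Agent.S2344
import Groth.Agent.S9718
import Groth.Prelude.Def_Curve

/-!
# Surjective morphisms from surfaces to smooth curves: generic fibre, flatness, sections
-/

set_option autoImplicit false
set_option linter.style.haveILetI false
set_option maxHeartbeats 1000000
set_option backward.isDefEq.respectTransparency false
set_option backward.isDefEq.respectTransparency.types false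

universe u

open CategoryTheory CategoryTheory.Limits AlgebraicGeometry TopologicalSpace Opposite

noncomputable section

namespace Groth.Agent.P1Surf1

open Groth.Agent

variable {k : Type u} [Field k] {X B : Scheme.{u}} [X.Over (Spec (CommRingCat.of k))]
  [B.Over (Spec (CommRingCat.of k))] [IsIntegral X] [IsIntegral B] {π : X ⟶ B}

omit [X.Over (Spec (CommRingCat.of k))] [B.Over (Spec (CommRingCat.of k))] in
theorem map_genericPoint (hsurj : Function.Surjective π) : π (genericPoint X) = genericPoint B := by
  obtain ⟨x, hx⟩ := hsurj (genericPoint B)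
  have h := (genericPoint_specializes x).map π.continuous
  rw [hx] at h
  exact (h.antisymm (genericPoint_specializes _)).eq

variable [IsProper (X ↘ Spec (CommRingCat.of k))] [IsProper (B ↘ Spec (CommRingCat.of k))]

theorem isProper_of_comp (hπ : π ≫ (B ↘ Spec (CommRingCat.of k)) = X ↘ Spec (CommRingCat.of k)) : IsProper π := by
  haveI : IsProper (π ≫ (B ↘ Spec (CommRingCat.of k))) := by rw [hπ]; infer_instance
  exact IsProper.of_comp π (B ↘ Spec (CommRingCat.of k))

/-- The generic fibre of a surface over a curve is a curve. -/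
theorem dim_fiber_generic (hπ : π ≫ (B ↘ Spec (CommRingCat.of k)) = X ↘ Spec (CommRingCat.of k))
    (hsurj : Function.Surjective π) (hX2 : topologicalKrullDim X = 2) (hB1 : topologicalKrullDim B = 1) :
    topologicalKrullDim (π.fiber (genericPoint B)) = 1 := by
  haveI := isProper_of_comp hπ
  have hX := VarDim.dim_eq_sdim_genericPoint (X ↘ Spec (CommRingCat.of k))
  have hB := VarDim.dim_eq_sdim_genericPoint (B ↘ Spec (CommRingCat.of k))
  rw [hX2] at hX
  rw [hB1] at hB
  have hX' : VarDim.sdim (X ↘ Spec (CommRingCat.of k)) (genericPoint X) = 2 := by exact_mod_cast hX.symm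
  have hB' : VarDim.sdim (B ↘ Spec (CommRingCat.of k)) (genericPoint B) = 1 := by exact_mod_cast hB.symm
  have h := FibGen4.sdim_eq_add_rd (X ↘ Spec (CommRingCat.of k)) (B ↘ Spec (CommRingCat.of k)) π hπ (genericPoint X)
  rw [map_genericPoint hsurj, hX', hB'] at h
  have hd := DimIrrH1.dim_generic_fibre π
  rw [map_genericPoint hsurj, show FibDim14.rd π (genericPoint X) = 1 by omega] at hd
  exact_mod_cast hd

/-- A surjection from an integral scheme onto a smooth curve is flat. -/
theorem flat_of_surjective [Smooth (B ↘ Spec (CommRingCat.of k))] (hB1 : topologicalKrullDim B = 1)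
    (hsurj : Function.Surjective π) : Flat π := by
  haveI : IsLocallyNoetherian B := LocallyOfFiniteType.isLocallyNoetherian (B ↘ Spec (CommRingCat.of k))
  refine (Flat.iff_flat_stalkMap π).2 fun x => ?_
  letI := (π.stalkMap x).hom.toAlgebra
  haveI := SmoothReg17.isIntegrallyClosed_stalk (B ↘ Spec (CommRingCat.of k)) (π x)
  have hinj : Function.Injective (algebraMap (B.presheaf.stalk (π x)) (X.presheaf.stalk x)) := by
    have key : ∀ a, (π.stalkMap x).hom a = 0 → a = 0 := by
      intro a ha
      obtain ⟨U, hxU, s, rfl⟩ := B.presheaf.exists_germ_eq a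
      have h1 : X.presheaf.germ (π ⁻¹ᵁ U) x hxU (π.app U s) = 0 := by
        rw [← ha]
        exact (Scheme.Hom.germ_stalkMap_apply π U x hxU s).symm
      have h2 : π.app U s = 0 := by
        haveI : Nonempty (π ⁻¹ᵁ U : X.Opens) := ⟨⟨x, hxU⟩⟩
        exact germ_injective_of_isIntegral X x hxU (h1.trans (map_zero _).symm)
      haveI : Nonempty (U : B.Opens) := ⟨⟨π x, hxU⟩⟩
      have hη : genericPoint X ∈ π ⁻¹ᵁ U := (genericPoint_specializes x).mem_open (π ⁻¹ᵁ U).2 hxU
      have hs : s = 0 := by
        by_contra hs
        have hne : B.basicOpen s ≠ ⊥ := fun h => hs ((basicOpen_eq_bot_iff s).1 h)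
        obtain ⟨z, hz⟩ : (B.basicOpen s : Set B).Nonempty := (Opens.ne_bot_iff_nonempty _).1 hne
        have hm : π (genericPoint X) ∈ B.basicOpen s := by
          rw [map_genericPoint hsurj]
          exact (genericPoint_specializes z).mem_open (B.basicOpen s).2 hz
        have : genericPoint X ∈ X.basicOpen (π.app U s) := by
          rw [← Scheme.preimage_basicOpen]; exact hm
        rw [h2, Scheme.basicOpen_zero] at this
        exact this
      rw [hs, map_zero]
    exact (injective_iff_map_eq_zero _).2 key
  have hpid : IsPrincipalIdealRing (B.presheaf.stalk (π x)) := by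
    by_cases hcl : IsClosed ({π x} : Set B)
    · haveI := Curve17.isDiscreteValuationRing_stalk hB1 hcl
      infer_instance
    · have hy : π x = genericPoint B := by
        by_contra hne
        exact hcl (Curve17.isClosed_singleton hB1.le hne)
      have hF : IsField (B.presheaf.stalk (π x)) := by
        rw [hy]; exact Field.toIsField B.functionField
      exact IsField.isPrincipalIdealRing hF
  show Module.Flat (B.presheaf.stalk (π x)) (X.presheaf.stalk x)
  refine (Module.Flat.flat_iff_torsion_eq_bot_of_isBezout).2 ((Submodule.eq_bot_iff _).2 fun m hm => ?_)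
  obtain ⟨r, hr⟩ := hm
  rw [Submonoid.smul_def, Algebra.smul_def, mul_eq_zero] at hr
  exact hr.resolve_left fun h => nonZeroDivisors.ne_zero r.2 (hinj (h.trans (map_zero _).symm))

/-- A rational point of the generic fibre extends to a section. -/
theorem exists_section [Smooth (B ↘ Spec (CommRingCat.of k))]
    (hπ : π ≫ (B ↘ Spec (CommRingCat.of k)) = X ↘ Spec (CommRingCat.of k)) (hB1 : topologicalKrullDim B = 1)
    (t : Spec (B.residueField (genericPoint B)) ⟶ π.fiber (genericPoint B))
    (ht : t ≫ π.fiberToSpecResidueField (genericPoint B) = 𝟙 _) :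
    ∃ σ : B ⟶ X, σ ≫ π = 𝟙 B := by
  haveI := isProper_of_comp hπ
  haveI : IsLocallyNoetherian B := LocallyOfFiniteType.isLocallyNoetherian (B ↘ Spec (CommRingCat.of k))
  haveI : LocallyOfFinitePresentation π := inferInstance
  letI : X.Over B := ⟨π⟩
  letI : B.Over B := ⟨𝟙 B⟩
  haveI : LocallyOfFinitePresentation (X ↘ B) := ‹LocallyOfFinitePresentation π›
  have hF : IsField (B.presheaf.stalk (genericPoint B)) := Field.toIsField B.functionField
  haveI : IsIso (B.residue (genericPoint B)) := by
    rw [ConcreteCategory.isIso_iff_bijective]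
    refine ⟨?_, B.residue_surjective (genericPoint B)⟩
    letI := hF.toField
    exact RingHom.injective (B.residue (genericPoint B)).hom
  let φ : Spec (B.presheaf.stalk (genericPoint B)) ⟶ X :=
    inv (Spec.map (B.residue (genericPoint B))) ≫ t ≫ π.fiberι (genericPoint B)
  have hsq : π.fiberι (genericPoint B) ≫ π =
      π.fiberToSpecResidueField (genericPoint B) ≫ B.fromSpecResidueField (genericPoint B) := pullback.condition
  have hφ : φ ≫ π = B.fromSpecStalk (genericPoint B) := by
    simp only [φ, Category.assoc, hsq]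
    rw [reassoc_of% ht, IsIso.inv_comp_eq]
    rfl
  obtain ⟨r, hr, -⟩ := S9718.result B B X φ (hφ.trans (Category.comp_id _).symm)
  haveI := hr
  obtain ⟨p, hp, rfl⟩ := Scheme.RationalMap.exists_partialMap_over (S := B) r
  have hp' : p.hom ≫ π = p.domain.ι := hp.comp_over.trans (Category.comp_id _)
  have hcurve : ∀ x : B, IsClosed ({x} : Set B) → ringKrullDim (B.presheaf.stalk x) = 1 :=
    fun x hx => Curve17.ringKrullDim_stalk hB1 hx
  have hnorm : Pi1.IsNormalScheme B := fun x =>
    ⟨inferInstance, SmoothReg17.isIntegrallyClosed_stalk (B ↘ Spec (CommRingCat.of k)) x⟩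
  obtain ⟨σ, ⟨hσ₁, hσ₂⟩, -⟩ := S2344.result k B X hcurve hnorm p.domain p.dense_domain p.hom
    (by rw [← hπ, reassoc_of% hp'])
  refine ⟨σ, ?_⟩
  haveI : IsDominant p.domain.ι := ⟨by
    show Dense (Set.range p.domain.ι)
    rw [Scheme.Opens.range_ι]
    exact p.dense_domain⟩
  refine ext_of_isDominant_of_isSeparated (B ↘ Spec (CommRingCat.of k)) ?_ p.domain.ι ?_
  · rw [Category.assoc, hπ, hσ₂, Category.id_comp]
  · rw [reassoc_of% hσ₁, hp', Category.comp_id]

end Groth.Agent.P1Surf1
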