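import Groth.Agent.Lib.KS29.SBForms
import Groth.Agent.Lib.CSAlg.Index
import Groth.Agent.Lib.P1Surf1.GeomFibre

/-!
# Curves of genus zero over C1 fields are lines
-/

set_option autoImplicit false
set_option linter.style.haveILetI false
set_option maxHeartbeats 1000000
set_option backward.isDefEq.respectTransparency false
set_option backward.isDefEq.respectTransparency.types false

universe u

open CategoryTheory CategoryTheory.Limits AlgebraicGeometry TopologicalSpace Opposite

noncomputable section

namespace Groth.Agent.P1Surf1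

open Groth.Agent

/-- Forms of projective space over C1 fields are split. -/
theorem exists_iso_of_isCr_one {k : Type u} [Field k] (hk : Curves.IsCr k 1) {X : Scheme.{u}}
    (f : X ⟶ Spec (CommRingCat.of k)) {K : Type u} [Field K] [Algebra k K] [Algebra.IsAlgebraic k K] {m : ℕ}
    (e : BrSev.Splitting f K m) :
    ∃ ρ : X ≅ CohB1.ProjSpace m k, ρ.hom ≫ CohB1.ProjSpace.toSpec m k = f := by
  obtain ⟨W, r, -, hr, -, hu, hc, hs, hf, hd, h⟩ := KS29.exists_indec_data f e
  haveI := hf
  haveI := hc
  haveI := hs
  haveI : Nontrivial (KS29.EndA f W) := inferInstance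
  letI : DivisionRing (KS29.EndA f W) := DivisionRing.ofIsUnitOrEqZero hu
  have h1 := CSAlg.finrank_eq_one_of_isCr_one hk (KS29.EndA f W)
  rw [hd] at h1
  exact h ((Nat.pow_eq_one.1 h1).resolve_right two_ne_zero).le

/-- A geometrically integral curve of genus zero over a C1 field is a line. -/
theorem exists_iso_P1_of_isCr_one {k : Type u} [Field k] (hk : Curves.IsCr k 1) {Y : Scheme.{u}}
    [Y.Over (Spec (CommRingCat.of k))]
    [IsProper (Y ↘ Spec (CommRingCat.of k))] [GeometricallyIntegral (Y ↘ Spec (CommRingCat.of k))]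
    (hdim : topologicalKrullDim Y = 1) (hg : Curv2.genus k Y = 0) :
    ∃ ρ : Y ≅ CohB1.ProjSpace 1 k, ρ.hom ≫ CohB1.ProjSpace.toSpec 1 k = Y ↘ Spec (CommRingCat.of k) := by
  let K := AlgebraicClosure k
  obtain ⟨e, he⟩ := exists_iso_P1_of_isPullback hdim hg K (CommRingCat.ofHom (algebraMap k K))
    (pullback.fst _ _) (pullback.snd _ _) (IsPullback.of_hasPullback (Y ↘ Spec (CommRingCat.of k))
      (Spec.map (CommRingCat.ofHom (algebraMap k K))))
  exact exists_iso_of_isCr_one hk (Y ↘ Spec (CommRingCat.of k)) (K := K) ⟨e, he⟩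

end Groth.Agent.P1Surf1
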