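import Groth.Agent.Lib.P1Surf1.Fibres
import Groth.Agent.Lib.P1Surf1.Split
import Groth.Agent.Lib.TsenLang.Basic
import Groth.Agent.Lib.CurveCoh17.P1Genus

/-!
# Sections of conic fibrations over curves
-/

set_option autoImplicit false
set_option linter.style.haveILetI false
set_option maxHeartbeats 1000000
set_option backward.isDefEq.respectTransparency false
set_option backward.isDefEq.respectTransparency.types false

universe u

open CategoryTheory CategoryTheory.Limits AlgebraicGeometry TopologicalSpace Opposite

noncomputable section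

namespace Groth.Agent.P1Surf1

open Groth.Agent

variable {k : Type u} [Field k] [IsAlgClosed k] {X B : Scheme.{u}} {π : X ⟶ B}

/-- Tsen: the function field of a curve is C1. -/
theorem isCr_one_generic [B.Over (Spec (CommRingCat.of k))] [LocallyOfFiniteType (B ↘ Spec (CommRingCat.of k))]
    [IsIntegral B] (hB1 : topologicalKrullDim B = 1) : Curves.IsCr (B.residueField (genericPoint B) : Type u) 1 := by
  letI := VarDim.resAlg (B ↘ Spec (CommRingCat.of k)) (genericPoint B)
  have hB := VarDim.dim_eq_sdim_genericPoint (B ↘ Spec (CommRingCat.of k))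
  rw [hB1] at hB
  have hB' : VarDim.sdim (B ↘ Spec (CommRingCat.of k)) (genericPoint B) = 1 := by exact_mod_cast hB.symm
  have htr := VarDim.trdeg_residueField (B ↘ Spec (CommRingCat.of k)) (genericPoint B)
  rw [hB', Nat.cast_one] at htr
  exact TsenLang.isCr_one_of_isCi_one (TsenLang.isCi_of_trdeg (K := k) (by rw [htr]; norm_num))

/-- A fibration in conics over a curve has a section. -/
theorem exists_section_of_genus_zero [X.Over (Spec (CommRingCat.of k))] [B.Over (Spec (CommRingCat.of k))]
    [IsProper (X ↘ Spec (CommRingCat.of k))] [IsProper (B ↘ Spec (CommRingCat.of k))]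
    [IsIntegral X] [IsIntegral B] [Smooth (B ↘ Spec (CommRingCat.of k))]
    (hπ : π ≫ (B ↘ Spec (CommRingCat.of k)) = X ↘ Spec (CommRingCat.of k))
    (hB1 : topologicalKrullDim B = 1) (hD : topologicalKrullDim (π.fiber (genericPoint B)) = 1)
    [GeometricallyIntegral (π.fiberToSpecResidueField (genericPoint B))]
    (hg : @Curv2.genus (B.residueField (genericPoint B)) _ (π.fiber (genericPoint B))
      ⟨π.fiberToSpecResidueField (genericPoint B)⟩ = 0) :
    ∃ σ : B ⟶ X, σ ≫ π = 𝟙 B := by
  haveI := isProper_of_comp hπ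
  letI : (π.fiber (genericPoint B)).Over (Spec (CommRingCat.of (B.residueField (genericPoint B)))) :=
    ⟨π.fiberToSpecResidueField (genericPoint B)⟩
  haveI : IsProper ((π.fiber (genericPoint B)) ↘ Spec (CommRingCat.of (B.residueField (genericPoint B)))) :=
    MorphismProperty.of_isPullback (P := @IsProper)
      (IsPullback.of_hasPullback π (B.fromSpecResidueField (genericPoint B))) inferInstance
  haveI : GeometricallyIntegral ((π.fiber (genericPoint B)) ↘ Spec (CommRingCat.of (B.residueField (genericPoint B)))) :=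
    ‹GeometricallyIntegral (π.fiberToSpecResidueField (genericPoint B))›
  obtain ⟨ρ, hρ⟩ := exists_iso_P1_of_isCr_one (isCr_one_generic (k := k) hB1) hD hg
  obtain ⟨s, hs⟩ := CurveCoh17.exists_section_P1 (k := (B.residueField (genericPoint B) : Type u))
  refine exists_section hπ hB1 (s ≫ ρ.inv) ?_
  have hρ' : ρ.inv ≫ π.fiberToSpecResidueField (genericPoint B) = CohB1.ProjSpace.toSpec 1 _ :=
    (Iso.inv_comp_eq ρ).2 hρ.symm
  rw [Category.assoc, hρ']
  exact hs

/-- A fibration in lines over a curve has a section. -/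
theorem exists_section_of_lines [X.Over (Spec (CommRingCat.of k))] [B.Over (Spec (CommRingCat.of k))]
    [IsProper (X ↘ Spec (CommRingCat.of k))] [IsProper (B ↘ Spec (CommRingCat.of k))]
    [IsIntegral X] [IsIntegral B] [Smooth (B ↘ Spec (CommRingCat.of k))]
    (hπ : π ≫ (B ↘ Spec (CommRingCat.of k)) = X ↘ Spec (CommRingCat.of k))
    (hsurj : Function.Surjective π) (hX2 : topologicalKrullDim X = 2) (hB1 : topologicalKrullDim B = 1)
    (hfib : ∀ b : B, IsClosed ({b} : Set B) → Nonempty (π.fiber b ≅ CohB1.ProjSpace 1 k)) :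
    ∃ σ : B ⟶ X, σ ≫ π = 𝟙 B := by
  obtain ⟨hI, hD, hG⟩ := (smooth_and_isP1Fam hπ hsurj hX2 hB1 hfib).2.2 (genericPoint B)
  haveI := hI
  exact exists_section_of_genus_zero hπ hB1 hD hG

end Groth.Agent.P1Surf1
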